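import Cfsg.Agent.Lib.Helper92.McL.Data
import Cfsg.Agent.Lib.Helper92.McL.DataCls

/-! # the McLaughlin group on 275 points: the class is closed under conjugation, part 0 (generated) -/

set_option autoImplicit false
set_option maxRecDepth 100000

namespace Cfsg.Agent.Lib.Helper92.McL

open Cfsg
open Cfsg.Agent.Lib.Helper27
open Cfsg.Agent.Lib.Helper92
open Cfsg.Agent.Lib.Helper92.PC

theorem cls_conj0 : conjB 275 (nth [aC, zC]) (nth [aiC, zC]) 2 (nth2 clsT 64) (fun j => tb (nth clsCi j))
    22275 0 700 = true := by decide +kernel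

theorem cls_conj1 : conjB 275 (nth [aC, zC]) (nth [aiC, zC]) 2 (nth2 clsT 64) (fun j => tb (nth clsCi j))
    22275 700 700 = true := by decide +kernel

theorem cls_conj2 : conjB 275 (nth [aC, zC]) (nth [aiC, zC]) 2 (nth2 clsT 64) (fun j => tb (nth clsCi j))
    22275 1400 700 = true := by decide +kernel

theorem cls_conj3 : conjB 275 (nth [aC, zC]) (nth [aiC, zC]) 2 (nth2 clsT 64) (fun j => tb (nth clsCi j))
    22275 2100 700 = true := by decide +kernel


end Cfsg.Agent.Lib.Helper92.McL
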