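import Cfsg.Agent.Lib.Helper92.McL.Data

/-! # the McLaughlin group on 275 points: element lists of Sylow subgroups (generated) -/

set_option autoImplicit false
set_option maxRecDepth 100000

namespace Cfsg.Agent.Lib.Helper92.McL

open Cfsg
open Cfsg.Agent.Lib.Helper27
open Cfsg.Agent.Lib.Helper92
open Cfsg.Agent.Lib.Helper92.PC

theorem e_id : PC.isId 275 eC = true := by decide +kernel
theorem a_ok : invOK 275 aC aiC = true := by decide +kernel
theorem z_ok : invOK 275 zC zC = true := by decide +kernel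
theorem t_ok : invOK 275 tC tC = true := by decide +kernel
theorem n0_ok : invOK 275 n0C n0iC = true := by decide +kernel
theorem q1_ok : invOK 275 q1C q1iC = true := by decide +kernel
theorem y0_ok : invOK 275 y0C y0C = true := by decide +kernel

def a : Equiv.Perm (Fin 275) := pm 275 aC aiC
def z : Equiv.Perm (Fin 275) := pm 275 zC zC
def t0 : Equiv.Perm (Fin 275) := pm 275 tC tC
def n0 : Equiv.Perm (Fin 275) := pm 275 n0C n0iC
def q1 : Equiv.Perm (Fin 275) := pm 275 q1C q1iC
def y0 : Equiv.Perm (Fin 275) := pm 275 y0C y0C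

theorem ha : HasP a aC := hasP_pm a_ok
theorem hai : HasP a⁻¹ aiC := hasP_pm_inv a_ok
theorem hz : HasP z zC := hasP_pm z_ok
theorem hzi : HasP z⁻¹ zC := hasP_pm_inv z_ok
theorem ht : HasP t0 tC := hasP_pm t_ok
theorem hn0 : HasP n0 n0C := hasP_pm n0_ok
theorem hq1 : HasP q1 q1C := hasP_pm q1_ok
theorem hy0 : HasP y0 y0C := hasP_pm y0_ok
theorem x7_ok : invOK 275 x7C x7iC = true := by decide +kernel
def x7 : Equiv.Perm (Fin 275) := pm 275 x7C x7iC
theorem hx7 : HasP x7 x7C := hasP_pm x7_ok

theorem Spairs : pairsOK 275 (nth Sgc) (nth Sgi) 3 = true := by decide +kernel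
theorem Sclosed : closedB 275 (nth Sgc) 3 (nth2 ST 64) (fun j => tb (nth Sci j)) 128 = true := by
  decide +kernel
theorem Stree : treeB (fun j => tb (nth Sci j)) (tb Spar) (tb Sgsel) (tb Srk) 127 3 128 = true := by
  decide +kernel
theorem Sinc : incB (nth2 ST 64) 128 = true := by decide +kernel
theorem Sid : PC.isId 275 (nth2 ST 64 127) = true := by decide +kernel
theorem Sidc : mulP 275 (nth2 ST 64 127) (nth2 ST 64 127) = nth2 ST 64 127 := by
  decide +kernel
def Sg : ℕ → Equiv.Perm (Fin 275) := fun j => pm 275 (nth Sgc j) (nth Sgi j)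
theorem Shg : ∀ j < 3, HasP (Sg j) (nth Sgc j) := hasP_of_pairsOK Spairs
theorem Slist : ListData 275 Sg 3 (nth2 ST 64) 128 :=
  listData Shg (by norm_num) Sid Sidc Sclosed Stree Sinc


theorem S2pairs : pairsOK 275 (nth S2gc) (nth S2gi) 4 = true := by decide +kernel
theorem S2closed : closedB 275 (nth S2gc) 4 (nth2 S2T 64) (fun j => tb (nth S2ci j)) 256 = true := by
  decide +kernel
theorem S2tree : treeB (fun j => tb (nth S2ci j)) (tb S2par) (tb S2gsel) (tb S2rk) 255 4 256 = true := by
  decide +kernel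
theorem S2inc : incB (nth2 S2T 64) 256 = true := by decide +kernel
theorem S2id : PC.isId 275 (nth2 S2T 64 255) = true := by decide +kernel
theorem S2idc : mulP 275 (nth2 S2T 64 255) (nth2 S2T 64 255) = nth2 S2T 64 255 := by
  decide +kernel
def S2g : ℕ → Equiv.Perm (Fin 275) := fun j => pm 275 (nth S2gc j) (nth S2gi j)
theorem S2hg : ∀ j < 4, HasP (S2g j) (nth S2gc j) := hasP_of_pairsOK S2pairs
theorem S2list : ListData 275 S2g 4 (nth2 S2T 64) 256 :=
  listData S2hg (by norm_num) S2id S2idc S2closed S2tree S2inc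


theorem L3pairs : pairsOK 275 (nth L3gc) (nth L3gi) 3 = true := by decide +kernel
theorem L3closed : closedB 275 (nth L3gc) 3 (nth2 L3T 64) (fun j => tb (nth L3ci j)) 729 = true := by
  decide +kernel
theorem L3tree : treeB (fun j => tb (nth L3ci j)) (tb L3par) (tb L3gsel) (tb L3rk) 728 3 729 = true := by
  decide +kernel
theorem L3inc : incB (nth2 L3T 64) 729 = true := by decide +kernel
theorem L3id : PC.isId 275 (nth2 L3T 64 728) = true := by decide +kernel
theorem L3idc : mulP 275 (nth2 L3T 64 728) (nth2 L3T 64 728) = nth2 L3T 64 728 := by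
  decide +kernel
def L3g : ℕ → Equiv.Perm (Fin 275) := fun j => pm 275 (nth L3gc j) (nth L3gi j)
theorem L3hg : ∀ j < 3, HasP (L3g j) (nth L3gc j) := hasP_of_pairsOK L3pairs
theorem L3list : ListData 275 L3g 3 (nth2 L3T 64) 729 :=
  listData L3hg (by norm_num) L3id L3idc L3closed L3tree L3inc


theorem L5pairs : pairsOK 275 (nth L5gc) (nth L5gi) 2 = true := by decide +kernel
theorem L5closed : closedB 275 (nth L5gc) 2 (nth2 L5T 64) (fun j => tb (nth L5ci j)) 125 = true := by
  decide +kernel
theorem L5tree : treeB (fun j => tb (nth L5ci j)) (tb L5par) (tb L5gsel) (tb L5rk) 124 2 125 = true := by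
  decide +kernel
theorem L5inc : incB (nth2 L5T 64) 125 = true := by decide +kernel
theorem L5id : PC.isId 275 (nth2 L5T 64 124) = true := by decide +kernel
theorem L5idc : mulP 275 (nth2 L5T 64 124) (nth2 L5T 64 124) = nth2 L5T 64 124 := by
  decide +kernel
def L5g : ℕ → Equiv.Perm (Fin 275) := fun j => pm 275 (nth L5gc j) (nth L5gi j)
theorem L5hg : ∀ j < 2, HasP (L5g j) (nth L5gc j) := hasP_of_pairsOK L5pairs
theorem L5list : ListData 275 L5g 2 (nth2 L5T 64) 125 :=
  listData L5hg (by norm_num) L5id L5idc L5closed L5tree L5inc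

end Cfsg.Agent.Lib.Helper92.McL
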