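import Cfsg.Agent.Lib.Helper92.McL.Data
import Cfsg.Agent.Lib.Helper92.McL.DataCls

/-! # the McLaughlin group on 275 points: the relator tests on the class (generated) -/

set_option autoImplicit false
set_option maxRecDepth 100000

namespace Cfsg.Agent.Lib.Helper92.McL

open Cfsg
open Cfsg.Agent.Lib.Helper27
open Cfsg.Agent.Lib.Helper92
open Cfsg.Agent.Lib.Helper92.PC

theorem mainA : mainB 275 aC zC aC rels (uL 275 eC aC tC 11) (nth2 clsT 64) (tb cjA) (tb cpA) 0 22275 = true := by
  decide +kernel

theorem mainA' : mainB 275 aC zC aiC rels (uL 275 eC aC tC 11) (nth2 clsT 64) (tb cjB) (tb cpB) 0 22275 = true := by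
  decide +kernel

end Cfsg.Agent.Lib.Helper92.McL
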