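import Cfsg.Agent.Lib.Helper92.McL.Lists
import Cfsg.Agent.Lib.Helper92.McL.Main
import Cfsg.Agent.Lib.Helper92.McL.Cls0
import Cfsg.Agent.Lib.Helper92.McL.Cls1
import Cfsg.Agent.Lib.Helper92.McL.Cls2
import Cfsg.Agent.Lib.Helper92.McL.Cls3
import Cfsg.Agent.Lib.Helper92.McL.Cls4
import Cfsg.Agent.Lib.Helper92.McL.Cls5
import Cfsg.Agent.Lib.Helper92.McL.Cls6
import Cfsg.Agent.Lib.Helper92.McL.Cls7

/-! # the McLaughlin group on 275 points: the outer automorphism group of the permutation group (generated) -/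

set_option autoImplicit false
set_option maxRecDepth 100000

namespace Cfsg.Agent.Lib.Helper92.McL

open Cfsg
open Cfsg.Agent.Lib.Helper27
open Cfsg.Agent.Lib.Helper92
open Cfsg.Agent.Lib.Helper92.PC

/-! ### the straight line programs -/

def outs : List ℕ := [n0C, q1C, y0C, x7C] ++ Sgc ++ L3gc ++ L5gc

theorem main_slp : headsOK outs (slp 275 eC mainProg [zC, aC]) = true := by decide +kernel

theorem a_mem : a ∈ PG a z := AutSetup.a_mem
theorem z_mem : z ∈ PG a z := AutSetup.z_mem

theorem out_mem : ∀ c ∈ outs, ∃ σ ∈ PG a z, HasP σ c :=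
  slp_out (PG a z) e_id (by
    intro c hc
    simp only [List.mem_cons, List.not_mem_nil, or_false] at hc
    rcases hc with rfl | rfl
    · exact ⟨z, z_mem, hz⟩
    · exact ⟨a, a_mem, ha⟩) main_slp

theorem n0_mem : n0 ∈ PG a z := mem_of_code (out_mem _ (by simp [outs])) hn0
theorem q1_mem : q1 ∈ PG a z := mem_of_code (out_mem _ (by simp [outs])) hq1
theorem y0_mem : y0 ∈ PG a z := mem_of_code (out_mem _ (by simp [outs])) hy0
theorem x7_mem : x7 ∈ PG a z := mem_of_code (out_mem _ (by simp [outs])) hx7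

theorem Sg_mem : ∀ j < 3, Sg j ∈ PG a z := fun j hj =>
  mem_of_code (out_mem _ (List.mem_append_left _ (List.mem_append_left _ (List.mem_append_right _ (nth_mem (by exact hj)))))) (Shg j hj)
theorem L3g_mem : ∀ j < 3, L3g j ∈ PG a z := fun j hj =>
  mem_of_code (out_mem _ (List.mem_append_left _ (List.mem_append_right _ (nth_mem (by exact hj))))) (L3hg j hj)
theorem L5g_mem : ∀ j < 2, L5g j ∈ PG a z := fun j hj =>
  mem_of_code (out_mem _ (List.mem_append_right _ (nth_mem (by exact hj)))) (L5hg j hj)

theorem az_slp : headsOK [aC, zC] (slp 275 eC azProg [p2C, p1C, p0C]) = true := by decide +kernel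

/-- `a` and `z` lie in every subgroup containing the given generators. -/
theorem az_of_gens (H : Subgroup (Equiv.Perm (Fin 275))) (h0 : ∃ σ ∈ H, HasP σ p0C) (h1 : ∃ σ ∈ H, HasP σ p1C) (h2 : ∃ σ ∈ H, HasP σ p2C) : PG a z ≤ H := by
  have key := slp_out H e_id (st := [p2C, p1C, p0C]) (by
    intro c hc
    simp only [List.mem_cons, List.not_mem_nil, or_false] at hc
    rcases hc with rfl | rfl | rfl
    · exact h2
    · exact h1
    · exact h0) az_slp
  unfold PG
  rw [Subgroup.closure_le]
  rintro x (rfl | hx)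
  · exact mem_of_code (key aC (by simp)) ha
  · rw [Set.mem_singleton_iff.1 hx]
    exact mem_of_code (key zC (by simp)) hz

/-! ### the order -/

theorem order_a : orderOf a = 11 :=
  orderOf_of_code (i := 0) (by norm_num) ha e_id (by decide +kernel) (by norm_num) (by decide +kernel)
theorem order_x7 : orderOf x7 = 7 :=
  orderOf_of_code (i := 0) (by norm_num) hx7 e_id (by decide +kernel) (by norm_num) (by decide +kernel)

theorem dvd_card : 898128000 ∣ Nat.card (PG a z) := by
  have h0 : 128 ∣ Nat.card (PG a z) := card_genS_dvd Slist Sg_mem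
  have h1 : 729 ∣ Nat.card (PG a z) := card_genS_dvd L3list L3g_mem
  have h2 : 125 ∣ Nat.card (PG a z) := card_genS_dvd L5list L5g_mem
  have h3 : 7 ∣ Nat.card (PG a z) := order_x7 ▸ orderOf_dvd_card_of_mem x7_mem
  have h4 : 11 ∣ Nat.card (PG a z) := order_a ▸ orderOf_dvd_card_of_mem a_mem
  have e1 : 128 * 729 ∣ Nat.card (PG a z) := Nat.Coprime.mul_dvd_of_dvd_of_dvd (by norm_num) h0 h1
  have e2 : 128 * 729 * 125 ∣ Nat.card (PG a z) := Nat.Coprime.mul_dvd_of_dvd_of_dvd (by norm_num) e1 h2
  have e3 : 128 * 729 * 125 * 7 ∣ Nat.card (PG a z) := Nat.Coprime.mul_dvd_of_dvd_of_dvd (by norm_num) e2 h3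
  have e4 : 128 * 729 * 125 * 7 * 11 ∣ Nat.card (PG a z) := Nat.Coprime.mul_dvd_of_dvd_of_dvd (by norm_num) e3 h4
  exact e4

/-! ### the class of `z` -/

theorem cls_all : ∀ k < 22275, ∀ j < 2, tb (nth clsCi j) k < 22275 ∧
    mulP 275 (mulP 275 (nth [aC, zC] j) (nth2 clsT 64 k)) (nth [aiC, zC] j) = nth2 clsT 64 (tb (nth clsCi j) k) := by
  intro k hk
  rcases Nat.lt_or_ge k 700 with h0 | h0
  · exact conjB_spec cls_conj0 (by omega) (by omega)
  rcases Nat.lt_or_ge k 1400 with h1 | h1
  · exact conjB_spec cls_conj1 (by omega) (by omega)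
  rcases Nat.lt_or_ge k 2100 with h2 | h2
  · exact conjB_spec cls_conj2 (by omega) (by omega)
  rcases Nat.lt_or_ge k 2800 with h3 | h3
  · exact conjB_spec cls_conj3 (by omega) (by omega)
  rcases Nat.lt_or_ge k 3500 with h4 | h4
  · exact conjB_spec cls_conj4 (by omega) (by omega)
  rcases Nat.lt_or_ge k 4200 with h5 | h5
  · exact conjB_spec cls_conj5 (by omega) (by omega)
  rcases Nat.lt_or_ge k 4900 with h6 | h6
  · exact conjB_spec cls_conj6 (by omega) (by omega)
  rcases Nat.lt_or_ge k 5600 with h7 | h7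
  · exact conjB_spec cls_conj7 (by omega) (by omega)
  rcases Nat.lt_or_ge k 6300 with h8 | h8
  · exact conjB_spec cls_conj8 (by omega) (by omega)
  rcases Nat.lt_or_ge k 7000 with h9 | h9
  · exact conjB_spec cls_conj9 (by omega) (by omega)
  rcases Nat.lt_or_ge k 7700 with h10 | h10
  · exact conjB_spec cls_conj10 (by omega) (by omega)
  rcases Nat.lt_or_ge k 8400 with h11 | h11
  · exact conjB_spec cls_conj11 (by omega) (by omega)
  rcases Nat.lt_or_ge k 9100 with h12 | h12
  · exact conjB_spec cls_conj12 (by omega) (by omega)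
  rcases Nat.lt_or_ge k 9800 with h13 | h13
  · exact conjB_spec cls_conj13 (by omega) (by omega)
  rcases Nat.lt_or_ge k 10500 with h14 | h14
  · exact conjB_spec cls_conj14 (by omega) (by omega)
  rcases Nat.lt_or_ge k 11200 with h15 | h15
  · exact conjB_spec cls_conj15 (by omega) (by omega)
  rcases Nat.lt_or_ge k 11900 with h16 | h16
  · exact conjB_spec cls_conj16 (by omega) (by omega)
  rcases Nat.lt_or_ge k 12600 with h17 | h17
  · exact conjB_spec cls_conj17 (by omega) (by omega)
  rcases Nat.lt_or_ge k 13300 with h18 | h18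
  · exact conjB_spec cls_conj18 (by omega) (by omega)
  rcases Nat.lt_or_ge k 14000 with h19 | h19
  · exact conjB_spec cls_conj19 (by omega) (by omega)
  rcases Nat.lt_or_ge k 14700 with h20 | h20
  · exact conjB_spec cls_conj20 (by omega) (by omega)
  rcases Nat.lt_or_ge k 15400 with h21 | h21
  · exact conjB_spec cls_conj21 (by omega) (by omega)
  rcases Nat.lt_or_ge k 16100 with h22 | h22
  · exact conjB_spec cls_conj22 (by omega) (by omega)
  rcases Nat.lt_or_ge k 16800 with h23 | h23
  · exact conjB_spec cls_conj23 (by omega) (by omega)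
  rcases Nat.lt_or_ge k 17500 with h24 | h24
  · exact conjB_spec cls_conj24 (by omega) (by omega)
  rcases Nat.lt_or_ge k 18200 with h25 | h25
  · exact conjB_spec cls_conj25 (by omega) (by omega)
  rcases Nat.lt_or_ge k 18900 with h26 | h26
  · exact conjB_spec cls_conj26 (by omega) (by omega)
  rcases Nat.lt_or_ge k 19600 with h27 | h27
  · exact conjB_spec cls_conj27 (by omega) (by omega)
  rcases Nat.lt_or_ge k 20300 with h28 | h28
  · exact conjB_spec cls_conj28 (by omega) (by omega)
  rcases Nat.lt_or_ge k 21000 with h29 | h29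
  · exact conjB_spec cls_conj29 (by omega) (by omega)
  rcases Nat.lt_or_ge k 21700 with h30 | h30
  · exact conjB_spec cls_conj30 (by omega) (by omega)
  exact conjB_spec cls_conj31 (by omega) (by omega)

theorem cls_z : nth2 clsT 64 4235 = zC := by decide +kernel

theorem cls_mem {x : Equiv.Perm (Fin 275)} (hx : x ∈ PG a z) :
    ∃ k < 22275, HasP (x * z * x⁻¹) (nth2 clsT 64 k) :=
  conj_closed (g := two a z) (gc := nth [aC, zC]) (gic := nth [aiC, zC]) (r := 2)
    (ci := fun j => tb (nth clsCi j))
    (forall_two ha hz) (forall_two hai hzi) cls_all (by rw [genS_two]; exact hx)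
    ⟨4235, by norm_num, cls_z ▸ hz⟩

theorem rels_ok : relB 275 aC zC rels = true := by decide +kernel

theorem t_sq : t0 * t0 = 1 := (ht.mul ht).eq_one (by decide +kernel)

/-! ### the setup -/

theorem S_z : nth2 ST 64 38 = zC := by decide +kernel

theorem t_a : t0 * a * t0⁻¹ = a := by
  rw [ht.mul_eq ha ha ht (by decide +kernel)]; group

theorem t_z : t0 * z * t0⁻¹ = y0 := by
  rw [ht.mul_eq hz hy0 ht (by decide +kernel)]; group

theorem S2_last : nth S2gc 3 = mulP 275 q1C tC := by decide +kernel
theorem S2_first : ∀ j < 3, nth S2gc j = nth Sgc j := by decide +kernel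

theorem setup (hcard : Nat.card (PG a z) = 898128000) : AutSetup a z t0 11 7 (genS Sg 3) where
  fin := inferInstance
  pp := by norm_num
  oa := order_a
  hp2 := by rw [hcard]; norm_num
  hSP := genS_le Sg_mem
  cS := by rw [Slist.card]; norm_num
  hk := by rw [hcard]; norm_num
  zS := mem_of_code (Slist.sup 38 (by norm_num)) (S_z ▸ hz)
  z1 := ne_one_of_code (i := 0) hz (by norm_num) (by decide +kernel)
  zc := comm_of_commB hz Shg (by decide +kernel)
  zu := centre_of_centB Shg Slist Sid (S_z ▸ hz) (by decide +kernel)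
  H1 := H1_of_normB e_id ha hai hn0 n0_mem (q := 5) (by decide +kernel)
  ta := by rw [t_a]; exact a_mem
  tz := by rw [t_z]; exact y0_mem
  tt := t_sq
  tout := by
    intro hc
    have h1 : ∀ j < 4, S2g j ∈ PG a z := by
      intro j hj
      rcases Nat.lt_succ_iff_lt_or_eq.1 hj with h | h
      · have := S2hg j hj
        rw [S2_first j h] at this
        rw [this.ext (Shg j h)]
        exact Sg_mem j h
      · have := S2hg j hj
        rw [h, S2_last] at this
        rw [h, this.ext (hq1.mul ht)]
        exact (PG a z).mul_mem q1_mem hc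
    have h2 := card_genS_dvd S2list h1
    rw [hcard] at h2
    revert h2
    norm_num
  cent := cent_of_centrB (wh := [true, false]) (W := nthB Wl) (f := 16) e_id ha hz (by decide +kernel)
  H2 := by
    rintro r y hr ⟨x, hx, rfl⟩ hw
    obtain ⟨k, hk, hy⟩ := cls_mem hx
    rcases hr with rfl | rfl
    · exact mainB_spec ha hz ha rels_ok (uL_spec e_id ha ht t_sq a_mem 11) mainA (Nat.zero_le k)
        (by omega) hy hw
    · exact mainB_spec ha hz hai rels_ok (uL_spec e_id ha ht t_sq a_mem 11) mainA' (Nat.zero_le k)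
        (by omega) hy hw

theorem card_out (hcard : Nat.card (PG a z) = 898128000) : Nat.card (Cfsg.Out (PG a z)) = 2 :=
  (setup hcard).card_out

end Cfsg.Agent.Lib.Helper92.McL
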