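import Cfsg.Agent.Lib.Helper54.McLMain
import Cfsg.Agent.Lib.Helper92.PC.Leech
import Cfsg.Agent.Lib.Helper92.McL.Perm
import Cfsg.Prelude.Def_Spor_Conway

/-!
# The McLaughlin group in the Leech lattice and its action on 275 vectors
-/

set_option autoImplicit false
set_option maxRecDepth 100000

namespace Cfsg.Agent.Lib.Helper92.McL

open Cfsg
open Cfsg.Agent.Lib.Helper27
open Cfsg.Agent.Lib.Helper54
open Cfsg.Agent.Lib.Helper92.PC

theorem tab_ok : clsTabOK' [XwB, Xv0] 32 [8, 16] mcl275Tab 275 = true := by decide +kernel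

theorem tabD : TabData [wB, v0] [XwB, Xv0] 32 [8, 16] mcl275Tab 275 where
  hbs := rfl
  htab := tab_ok
  hcard := t3_count3
  hN0 := by norm_num
  hn := by norm_num

theorem count32 : CountL [] 32 [] 196560 := by
  unfold CountL
  rw [← ncard_min]
  congr 1
  ext x
  exact clsL_nil

theorem count8 : CountL [v0] 32 [-8] 47104 := by
  unfold CountL
  have := co0_count_pair v0 v0_norm (-8) (by decide)
  have e : mOf (-8) = 47104 := by decide
  rw [← e, ← this]
  congr 1
  ext x
  show ClsL [v0] 32 [-8] x ↔ _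
  rw [clsL_cons, clsL_nil]
  exact and_comm

theorem card_fix : Nat.card (FixL [wB, v0]) = 898128000 := by
  have h0 := card_FixL_nil
  have h1 := card_FixL_cons (b0 := v0) transL_nil_32 count32 (clsL_nil.2 v0_norm)
  have h2 := card_FixL_cons (b0 := wB) (transL_one_32 v0 v0_norm (-8)) count8
    (clsL_cons.2 ⟨v0_wB, clsL_nil.2 wB_norm⟩)
  rw [card_Co0] at h0
  rw [h0, h2] at h1
  omega

/-- the `i`-th generator. -/
def gn (i : ℕ) : ℕ × List ℕ := mclGens.getD i (0, [])

theorem gn_mem {i : ℕ} (hi : i < mclGens.length) : gn i ∈ mclGens := by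
  unfold gn
  rw [List.getD_eq_getElem _ _ hi]
  exact List.getElem_mem _

theorem gn_ok {i : ℕ} (hi : i < mclGens.length) :
    certOK (gn i).2 = true ∧ colsOK (gn i).1 (gn i).2 = true := by
  have h := mclGens_ok
  unfold gensOK at h
  rw [allList_iff] at h
  have := h _ (gn_mem hi)
  rwa [band_eq, Bool.and_eq_true] at this

theorem gn_fix {i : ℕ} (hi : i < mclGens.length) : genCo0 (gn i).2 (gn_ok hi).1 ∈ FixL [wB, v0] :=
  mem_StabC_iff (bs := [wB, v0]) (Xs := [XwB, Xv0]) rfl
    (genCo0_mem_StabC base_wB_v0 mclGens_ok mclGens_fix _ (gn_mem hi) _)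

theorem act0 : TabData.actOK (gn 0).1 (gn 0).2 mcl275Tab 275 p0C = true := by decide +kernel
theorem act1 : TabData.actOK (gn 1).1 (gn 1).2 mcl275Tab 275 p1C = true := by decide +kernel
theorem act2 : TabData.actOK (gn 2).1 (gn 2).2 mcl275Tab 275 p2C = true := by decide +kernel

theorem len : mclGens.length = 3 := by decide +kernel

theorem range_code {i code : ℕ} (hi : i < mclGens.length)
    (h : TabData.actOK (gn i).1 (gn i).2 mcl275Tab 275 code = true) :
    ∃ σ ∈ tabD.phi.range, HasP σ code :=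
  ⟨_, ⟨⟨genCo0 (gn i).2 (gn_ok hi).1, gn_fix hi⟩, rfl⟩, tabD.hasP_gen (gn_ok hi).1 (gn_ok hi).2 _ h⟩

theorem PG_le : PG a z ≤ tabD.phi.range :=
  az_of_gens _ (range_code (i := 0) (by rw [len]; norm_num) act0)
    (range_code (i := 1) (by rw [len]; norm_num) act1)
    (range_code (i := 2) (by rw [len]; norm_num) act2)

theorem iso_fix : Nonempty (FixL [wB, v0] ≃* PG a z) ∧ Nat.card (PG a z) = 898128000 := by
  have : Finite (FixL [wB, v0]) := Nat.finite_of_card_ne_zero (by rw [card_fix]; norm_num)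
  have := iso_of_dvd tabD.phi (PG a z) PG_le (by rw [card_fix]; exact dvd_card)
  rwa [card_fix] at this

/-! ### the group of the statement -/

theorem normU : sqNorm (Spor.leechU : GolayPt → ℤ) = 32 := by
  show sqNorm Spor.vecU = 32
  decide +kernel

theorem normW : sqNorm ((-Spor.leechV - Spor.leechU : ↥leechLattice) : GolayPt → ℤ) = 32 := by
  show sqNorm (-Spor.vecV - Spor.vecU) = 32
  decide +kernel

theorem dotUW : dotInt (Spor.leechU : GolayPt → ℤ)
    ((-Spor.leechV - Spor.leechU : ↥leechLattice) : GolayPt → ℤ) = -8 := by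
  show dotInt Spor.vecU (-Spor.vecV - Spor.vecU) = -8
  decide +kernel

theorem conj_std : ConjL [wB, v0] [-Spor.leechV - Spor.leechU, Spor.leechU] :=
  conj_pair8 Spor.leechU (-Spor.leechV - Spor.leechU) normU normW dotUW

/-- `McL` as a pointwise stabiliser. -/
def mclEquiv : ↥Spor.McL ≃* FixL [-Spor.leechV - Spor.leechU, Spor.leechU] where
  toFun g := ⟨⟨g.1, g.2.1.1⟩, by
    have hu : (⟨g.1, g.2.1.1⟩ : ↥Co0) • Spor.leechU = Spor.leechU := g.2.2
    have hv : (⟨g.1, g.2.1.1⟩ : ↥Co0) • Spor.leechV = Spor.leechV := g.2.1.2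
    intro b hb
    simp only [List.mem_cons, List.not_mem_nil, or_false] at hb
    rcases hb with rfl | rfl
    · rw [co0_sub, co0_neg, hu, hv]
    · exact hu⟩
  invFun g := ⟨g.1.1, by
    have hu : g.1 • Spor.leechU = Spor.leechU := g.2 _ (by simp)
    have hw : g.1 • (-Spor.leechV - Spor.leechU) = -Spor.leechV - Spor.leechU := g.2 _ (by simp)
    have hv : g.1 • Spor.leechV = Spor.leechV := by
      rw [co0_sub, co0_neg, hu] at hw
      have := sub_left_injective hw
      exact neg_injective this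
    exact ⟨⟨g.1.2, hv⟩, hu⟩⟩
  left_inv _ := rfl
  right_inv _ := rfl
  map_mul' _ _ := rfl

theorem card_out_McL : Nat.card (Cfsg.Out ↥Spor.McL) = 2 := by
  obtain ⟨⟨e1⟩, hc⟩ := iso_fix
  obtain ⟨e2⟩ := nonempty_FixL_congr conj_std
  rw [card_out_congr ((mclEquiv.trans e2.symm).trans e1)]
  exact card_out hc

end Cfsg.Agent.Lib.Helper92.McL
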